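import Groth.Agent.Lib.PSOmega.Perfect
import Groth.Agent.Lib.CotTwo.ExtOne
import Groth.Agent.H24.PowerSeries
import Mathlib.Algebra.Category.ModuleCat.Ext.HasExt

/-!
# Conormal sequence of an isolated hypersurface singularity in three variables
-/

set_option autoImplicit false

universe u

open MvPowerSeries CategoryTheory

namespace Groth.Agent.Lib.PSOmega.Hypersurface

variable {k : Type u} [Field k] {r : ℕ}

theorem X_dvd_of_dvd_mul {i j : Fin r} (hij : i ≠ j) (b : MvPowerSeries (Fin r) k) (h : X i ∣ X j * b) :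
    X i ∣ b := by
  classical
  rw [X_dvd_iff] at h ⊢
  intro m hm
  have := h (Finsupp.single j 1 + m) (by simp [hm, Ne.symm hij])
  rwa [X, coeff_add_monomial_mul, one_mul] at this

theorem mem_span_of_mul_maximalIdeal (f a : MvPowerSeries (Fin r) k) (hf : f ≠ 0) {i j : Fin r} (hij : i ≠ j)
    (h : ∀ x ∈ IsLocalRing.maximalIdeal (MvPowerSeries (Fin r) k), a * x ∈ Ideal.span {f}) : a ∈ Ideal.span {f} := by
  obtain ⟨b, hb⟩ := Ideal.mem_span_singleton'.1 (h _ (Groth.Agent.H24.PowerSeries.X_mem k i))
  obtain ⟨c, hc⟩ := Ideal.mem_span_singleton'.1 (h _ (Groth.Agent.H24.PowerSeries.X_mem k j))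
  have h1 : X j * b = X i * c := by
    refine mul_right_cancel₀ hf ?_
    rw [mul_assoc, hb, mul_assoc, hc]
    ring
  obtain ⟨b', rfl⟩ := X_dvd_of_dvd_mul hij b ⟨c, h1⟩
  refine Ideal.mem_span_singleton'.2 ⟨b', mul_right_cancel₀ (b := (X i : MvPowerSeries (Fin r) k)) ?_ ?_⟩
  · intro h0
    have := congrArg (coeff (Finsupp.single i 1)) h0
    simp at this
  · rw [← hb]; ring

theorem mem_span_of_mul_pow (f a : MvPowerSeries (Fin r) k) (hf : f ≠ 0) {i j : Fin r} (hij : i ≠ j) :
    ∀ N : ℕ, (∀ x ∈ IsLocalRing.maximalIdeal (MvPowerSeries (Fin r) k) ^ N, a * x ∈ Ideal.span {f}) →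
      a ∈ Ideal.span {f} := by
  intro N
  induction N generalizing a with
  | zero => intro h; simpa using h 1 (by simp)
  | succ N ih =>
    intro h
    refine ih a fun z hz => mem_span_of_mul_maximalIdeal f (a * z) hf hij fun x hx => ?_
    rw [mul_assoc]
    exact h _ (by rw [pow_succ]; exact Ideal.mul_mem_mul hz hx)

variable (p : ℕ) [hp : Fact p.Prime] [CharP k p] [PerfectRing k p]

include hp p in
theorem D_eq_sum (g : MvPowerSeries (Fin r) k) :
    KaehlerDifferential.D k (MvPowerSeries (Fin r) k) g =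
      ∑ i, pderiv k i g • KaehlerDifferential.D k (MvPowerSeries (Fin r) k) (X i) := by
  classical
  refine (dMap_bijective k p).1 (funext fun j => ?_)
  rw [map_sum, dMap_D, Finset.sum_apply, Finset.sum_eq_single j]
  · rw [map_smul, Pi.smul_apply, dMap_D, pderiv_X_self, smul_eq_mul, mul_one]
  · intro b _ hb
    rw [map_smul, Pi.smul_apply, dMap_D, pderiv_X_of_ne hb, smul_zero]
  · simp

include hp p in
theorem jacobian_eq (f : MvPowerSeries (Fin r) k) :
    Ideal.span {g | ∃ D : Derivation k (MvPowerSeries (Fin r) k) (MvPowerSeries (Fin r) k), g = D f} =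
      Ideal.span (Set.range fun i => pderiv k i f) := by
  refine le_antisymm (Ideal.span_le.2 ?_) (Ideal.span_mono ?_)
  · rintro _ ⟨D, rfl⟩
    have := congrArg D.liftKaehlerDifferential (D_eq_sum p f)
    simp only [map_sum, map_smul, Derivation.liftKaehlerDifferential_comp_D] at this
    rw [SetLike.mem_coe, this]
    exact Ideal.sum_mem _ fun i _ => Ideal.mul_mem_right _ _ (Ideal.subset_span ⟨i, rfl⟩)
  · rintro _ ⟨i, rfl⟩
    exact ⟨_, rfl⟩

variable (f : MvPowerSeries (Fin r) k)

local notation "A" => MvPowerSeries (Fin r) k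
set_option quotPrecheck false in
local notation "R₀" => (MvPowerSeries (Fin r) k ⧸ Ideal.span (Singleton.singleton f : Set (MvPowerSeries (Fin r) k)))

/-- The gradient of `f` modulo `f`. -/
noncomputable def grad : R₀ →ₗ[R₀] (Fin r → R₀) :=
  LinearMap.toSpanSingleton R₀ (Fin r → R₀) fun i => Ideal.Quotient.mk _ (pderiv k i f)

/-- `eᵢ ↦ dXᵢ`. -/
noncomputable def toOmega : (Fin r → R₀) →ₗ[R₀] Ω[R₀⁄k] :=
  Fintype.linearCombination R₀ fun i => KaehlerDifferential.D k R₀ (Ideal.Quotient.mk _ (X i))

include hp p in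
theorem toOmega_pderiv (g : A) :
    toOmega f (fun i => Ideal.Quotient.mk _ (pderiv k i g)) = KaehlerDifferential.D k R₀ (Ideal.Quotient.mk _ g) := by
  have h := congrArg (KaehlerDifferential.map k k A R₀) (D_eq_sum p g)
  simp only [map_sum, map_smul, KaehlerDifferential.map_D] at h
  simp only [toOmega, Fintype.linearCombination_apply]
  exact (Finset.sum_congr rfl fun i _ =>
    (algebraMap_smul (MvPowerSeries (Fin r) k ⧸ Ideal.span {f}) (pderiv k i g) _)).trans h.symm

include hp p in
theorem toOmega_surjective : Function.Surjective (toOmega f) := by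
  rw [← LinearMap.range_eq_top, eq_top_iff, ← KaehlerDifferential.span_range_derivation, Submodule.span_le]
  rintro _ ⟨g, rfl⟩
  obtain ⟨g, rfl⟩ := Ideal.Quotient.mk_surjective g
  exact ⟨_, toOmega_pderiv p f g⟩

include hp p in
theorem exact_grad : Function.Exact (grad f) (toOmega f) := by
  intro v
  constructor
  · intro hv
    let Q := (Fin r → R₀) ⧸ LinearMap.range (grad f)
    let mkQ := (LinearMap.range (grad f)).mkQ
    let δ : A → Q := fun g => mkQ fun i => Ideal.Quotient.mk _ (pderiv k i g)
    have hδ0 : ∀ g ∈ Ideal.span {f}, δ g = 0 := fun g hg => by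
      obtain ⟨a, rfl⟩ := Ideal.mem_span_singleton'.1 hg
      refine (Submodule.Quotient.mk_eq_zero _).2 ⟨Ideal.Quotient.mk _ a, funext fun i => ?_⟩
      simp [grad, Derivation.leibniz, Ideal.Quotient.eq_zero_iff_mem.2 (Ideal.mem_span_singleton_self f)]
    let δ₀ : A →ₗ[k] Q :=
      { toFun := δ
        map_add' := fun a b => by
          simp only [δ, map_add]
          rw [← map_add]
          rfl
        map_smul' := fun c a => by
          simp only [δ, Derivation.map_smul, RingHom.id_apply]
          rw [← LinearMap.map_smul_of_tower]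
          rfl }
    let I : Submodule k A := (Ideal.span {f} : Ideal A).restrictScalars k
    let δ₁ : R₀ →ₗ[k] Q :=
      { toFun := fun x => Quotient.liftOn' x δ fun a b hab => by
          rw [Submodule.quotientRel_def] at hab
          have := hδ0 _ hab
          rw [← sub_eq_zero, ← show δ₀ (a - b) = δ a - δ b from map_sub δ₀ a b]
          exact this
        map_add' := fun x y => by
          obtain ⟨x, rfl⟩ := Ideal.Quotient.mk_surjective x
          obtain ⟨y, rfl⟩ := Ideal.Quotient.mk_surjective y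
          exact map_add δ₀ x y
        map_smul' := fun c x => by
          obtain ⟨x, rfl⟩ := Ideal.Quotient.mk_surjective x
          exact map_smul δ₀ c x }
    let Δ : Derivation k R₀ Q := Derivation.mk' δ₁ fun x y => by
      obtain ⟨x, rfl⟩ := Ideal.Quotient.mk_surjective x
      obtain ⟨y, rfl⟩ := Ideal.Quotient.mk_surjective y
      change δ (x * y) = Ideal.Quotient.mk _ x • δ y + Ideal.Quotient.mk _ y • δ x
      simp only [δ]
      rw [← map_smul, ← map_smul, ← map_add]
      congr 1
      funext i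
      simp [Derivation.leibniz]
    have hΔ : ∀ w, Δ.liftKaehlerDifferential (toOmega f w) = mkQ w := fun w => by
      classical
      simp only [toOmega, Fintype.linearCombination_apply, map_sum, map_smul, Derivation.liftKaehlerDifferential_comp_D]
      have hX : ∀ i, Δ (Ideal.Quotient.mk _ (X i)) = mkQ (Pi.single i 1) := fun i => by
        change mkQ (fun j => Ideal.Quotient.mk _ (pderiv k j (X i))) = _
        congr 1
        funext j
        by_cases hj : i = j
        · subst hj; simp
        · simp [pderiv_X_of_ne hj, Ne.symm hj]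
      simp only [hX, ← map_smul, ← map_sum]
      congr 1
      funext j
      simp [Pi.single_apply]
    have := hΔ v
    rw [hv, map_zero] at this
    exact (Submodule.Quotient.mk_eq_zero _).1 this.symm
  · rintro ⟨a, rfl⟩
    have h : grad f a = a • fun i => Ideal.Quotient.mk _ (pderiv k i f) := rfl
    rw [h, map_smul, toOmega_pderiv p f f, Ideal.Quotient.eq_zero_iff_mem.2 (Ideal.mem_span_singleton_self f),
      map_zero, smul_zero]

include hp p in
theorem main (hr : 2 ≤ r) (hf : f ∈ IsLocalRing.maximalIdeal A)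
    (hiso : ∃ N : ℕ, IsLocalRing.maximalIdeal A ^ N ≤
      Ideal.span {f} ⊔ Ideal.span {g | ∃ D : Derivation k A A, g = D f}) :
    Subsingleton (Abelian.Ext.{u} (ModuleCat.of R₀ (KaehlerDifferential k R₀)) (ModuleCat.of R₀ R₀) 2) ∧
      Nonempty (Abelian.Ext.{u} (ModuleCat.of R₀ (KaehlerDifferential k R₀)) (ModuleCat.of R₀ R₀) 1 ≃ₗ[R₀]
        (R₀ ⧸ Ideal.map (Ideal.Quotient.mk (Ideal.span {f})) (Ideal.span {g | ∃ D : Derivation k A A, g = D f}))) := by
  classical
  obtain ⟨N, hN⟩ := hiso
  rw [jacobian_eq p f] at hN ⊢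
  have hf0 : f ≠ 0 := fun h => by
    subst h
    have hbot : IsLocalRing.maximalIdeal A ^ N = ⊥ := eq_bot_iff.2 (hN.trans (by simp [Ideal.span_le]))
    have h0 : (X (⟨0, by omega⟩ : Fin r) : A) ^ N = 0 := by
      rw [← Ideal.mem_bot, ← hbot]
      exact Ideal.pow_mem_pow (Groth.Agent.H24.PowerSeries.X_mem k _) N
    have := congrArg (coeff (Finsupp.single (⟨0, by omega⟩ : Fin r) N)) h0
    simp [coeff_X_pow] at this
  have hinj : Function.Injective (grad f) := by
    refine (injective_iff_map_eq_zero _).2 fun a ha => ?_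
    obtain ⟨a, rfl⟩ := Ideal.Quotient.mk_surjective a
    refine Ideal.Quotient.eq_zero_iff_mem.2 (mem_span_of_mul_pow f a hf0
      (i := ⟨0, by omega⟩) (j := ⟨1, by omega⟩) (by simp) N fun x hx => ?_)
    obtain ⟨y, hy, z, hz, rfl⟩ := Submodule.mem_sup.1 (hN hx)
    rw [mul_add]
    refine add_mem (Ideal.mul_mem_left _ _ hy) ?_
    clear hx
    induction hz using Submodule.span_induction with
    | mem w hw =>
      obtain ⟨i, rfl⟩ := hw
      rw [← Ideal.Quotient.eq_zero_iff_mem, map_mul]
      exact congrFun ha i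
    | zero => simp
    | add u v _ _ hu hv => rw [mul_add]; exact add_mem hu hv
    | smul c u _ hu => rw [smul_eq_mul, mul_left_comm]; exact Ideal.mul_mem_left _ _ hu
  have hex := exact_grad p f
  have hsurj := toOmega_surjective p f
  refine ⟨?_, ?_⟩
  · let S : ShortComplex (ModuleCat.{u} R₀) := ShortComplex.mk (ModuleCat.ofHom (grad f)) (ModuleCat.ofHom (toOmega f))
      (ModuleCat.hom_ext (LinearMap.ext fun x => hex.apply_apply_eq_zero x))
    have hS : S.ShortExact :=
      { exact := (ShortComplex.ShortExact.moduleCat_exact_iff_function_exact S).2 hex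
        mono_f := (ModuleCat.mono_iff_injective _).2 hinj
        epi_g := (ModuleCat.epi_iff_surjective _).2 hsurj }
    haveI : Projective S.X₁ := (ModuleCat.of R₀ R₀).projective_of_categoryTheory_projective
    haveI : Projective S.X₂ := (ModuleCat.of R₀ (Fin r → R₀)).projective_of_categoryTheory_projective
    refine subsingleton_of_forall_eq 0 fun x => ?_
    obtain ⟨x₁, hx₁⟩ := Abelian.Ext.contravariant_sequence_exact₃ hS (ModuleCat.of R₀ R₀) x
      (Abelian.Ext.eq_zero_of_projective (n := 1) _) (show 1 + 1 = 2 from rfl)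
    rw [← hx₁, Abelian.Ext.eq_zero_of_projective (n := 0) x₁, Abelian.Ext.comp_zero]
  · obtain ⟨e⟩ := Groth.Agent.Lib.CotTwo.nonempty_coker_equiv_ext_one (M := R₀) (grad f) (toOmega f) hinj hex hsurj
    let J := Ideal.map (Ideal.Quotient.mk (Ideal.span {f})) (Ideal.span (Set.range fun i => pderiv k i f))
    let Φ : (R₀ →ₗ[R₀] R₀) →ₗ[R₀] R₀ ⧸ J := J.mkQ ∘ₗ LinearMap.applyₗ (1 : R₀)
    have hΦ : Function.Surjective Φ := fun y => by
      obtain ⟨y, rfl⟩ := Submodule.mkQ_surjective _ y
      exact ⟨LinearMap.toSpanSingleton R₀ R₀ y, by simp [Φ]⟩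
    have hker : LinearMap.ker Φ = LinearMap.range (LinearMap.lcomp R₀ R₀ (grad f)) := by
      have hJ : J = Ideal.span (Set.range fun i => Ideal.Quotient.mk (Ideal.span {f}) (pderiv k i f)) := by
        simp only [J, Ideal.map_span, ← Set.range_comp]
        rfl
      ext φ
      rw [LinearMap.mem_ker, LinearMap.mem_range]
      change Submodule.Quotient.mk (φ 1) = 0 ↔ _
      rw [Submodule.Quotient.mk_eq_zero, hJ, Ideal.mem_span_range_iff_exists_fun]
      constructor
      · rintro ⟨c, hc⟩
        exact ⟨Fintype.linearCombination R₀ c, LinearMap.ext_ring (by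
          simp [grad, Fintype.linearCombination_apply, ← hc, mul_comm])⟩
      · rintro ⟨ψ, rfl⟩
        refine ⟨fun i => ψ (Pi.single i 1), ?_⟩
        simp only [LinearMap.lcomp_apply, grad, LinearMap.toSpanSingleton_apply, one_smul]
        conv_rhs => rw [pi_eq_sum_univ' (fun i => Ideal.Quotient.mk (Ideal.span {f}) (pderiv k i f))]
        simp [mul_comm]
    exact ⟨e.symm.trans ((Submodule.quotEquivOfEq _ _ hker.symm).trans (Φ.quotKerEquivOfSurjective hΦ))⟩

end Groth.Agent.Lib.PSOmega.Hypersurface
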