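import Mathlib.RingTheory.MvPowerSeries.Derivative
import Mathlib.RingTheory.MvPowerSeries.Expand
import Mathlib.RingTheory.Kaehler.Basic
import Mathlib.FieldTheory.Perfect
import Mathlib.Algebra.CharP.Algebra

/-!
# Differentials of power series over a perfect field of characteristic `p`
-/

set_option autoImplicit false

universe u

open MvPowerSeries

namespace Groth.Agent.Lib.PSOmega

variable (k : Type u) [Field k] (p : ℕ) [hp : Fact p.Prime] [CharP k p] [PerfectRing k p] {r : ℕ}

/-- Every series is a combination of `p`-th powers times monomials of degree `< p` in each variable. -/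
theorem exists_pow_decomp (g : MvPowerSeries (Fin r) k) :
    ∃ h : (Fin r → Fin p) → MvPowerSeries (Fin r) k,
      g = ∑ a, h a ^ p * ∏ i, (X i : MvPowerSeries (Fin r) k) ^ (a i : ℕ) := by
  classical
  haveI : ExpChar k p := ExpChar.prime hp.out
  let ea : (Fin r → Fin p) → (Fin r →₀ ℕ) := fun a => Finsupp.equivFunOnFinite.symm fun i => (a i : ℕ)
  have hea : ∀ a, (∏ i, (X i : MvPowerSeries (Fin r) k) ^ (a i : ℕ)) = monomial (ea a) (1 : k) := fun a => by
    rw [monomial_eq', map_one, one_mul, Finsupp.prod_fintype _ _ fun i => pow_zero _]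
    exact Finset.prod_congr rfl fun i _ => by simp [ea]
  let h : (Fin r → Fin p) → MvPowerSeries (Fin r) k := fun a n =>
    (frobeniusEquiv k p).symm (coeff (p • n + ea a) g)
  refine ⟨h, MvPowerSeries.ext fun m => ?_⟩
  have hcoef : ∀ a, coeff m (h a ^ p * monomial (ea a) (1 : k)) =
      if ea a ≤ m ∧ (∀ i, p ∣ m i - ea a i) then coeff m g else 0 := fun a => by
    rw [coeff_mul_monomial]
    by_cases ha : ea a ≤ m
    · rw [if_pos ha, mul_one, ← map_frobenius_expand p hp.out.ne_zero, coeff_map]
      by_cases hd : ∀ i, p ∣ m i - ea a i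
      · rw [if_pos ⟨ha, hd⟩]
        choose q hq using hd
        have hmq : m - ea a = p • Finsupp.equivFunOnFinite.symm q := Finsupp.ext fun i => by simp [hq i]
        rw [hmq, coeff_expand_smul]
        change frobenius k p ((frobeniusEquiv k p).symm _) = _
        rw [frobenius_apply_frobeniusEquiv_symm, ← hmq, tsub_add_cancel_of_le ha]
      · rw [if_neg fun hh => hd hh.2]
        push_neg at hd
        obtain ⟨i, hi⟩ := hd
        rw [coeff_expand_of_not_dvd p hp.out.ne_zero _ (i := i) (by simpa using hi), map_zero]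
    · rw [if_neg ha, if_neg fun hh => ha hh.1]
  rw [map_sum]
  simp only [hea, hcoef]
  let a₀ : Fin r → Fin p := fun i => ⟨m i % p, Nat.mod_lt _ hp.out.pos⟩
  rw [Finset.sum_eq_single a₀]
  · rw [if_pos]
    refine ⟨fun i => ?_, fun i => ?_⟩
    · simp [ea, a₀, Nat.mod_le]
    · simp [ea, a₀, Nat.dvd_sub_mod]
  · intro a _ hne
    rw [if_neg]
    rintro ⟨hle, hdvd⟩
    refine hne (funext fun i => Fin.ext ?_)
    have h1 : (a i : ℕ) ≤ m i := by simpa [ea] using hle i
    have h2 : p ∣ m i - (a i : ℕ) := by simpa [ea] using hdvd i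
    change (a i : ℕ) = m i % p
    rw [(Nat.modEq_iff_dvd' h1).2 h2 |>.symm, Nat.mod_eq_of_lt (a i).2]
  · simp

include hp p in
/-- `Ω` of a power series ring over a perfect field is spanned by the `dXᵢ`. -/
theorem span_D_X_eq_top :
    Submodule.span (MvPowerSeries (Fin r) k)
      (Set.range fun i : Fin r => KaehlerDifferential.D k (MvPowerSeries (Fin r) k) (X i)) = ⊤ := by
  let A := MvPowerSeries (Fin r) k
  let D := KaehlerDifferential.D k A
  have : CharP A p := charP_of_injective_ringHom (algebraMap k A).injective p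
  refine eq_top_iff.2 ?_
  rw [← KaehlerDifferential.span_range_derivation, Submodule.span_le]
  rintro _ ⟨g, rfl⟩
  set N := Submodule.span A (Set.range fun i : Fin r => D (X i)) with hN
  obtain ⟨h, hg⟩ := exists_pow_decomp k p g
  have hpow : ∀ (e : Fin r → ℕ) (s : Finset (Fin r)), D (∏ i ∈ s, (X i : A) ^ e i) ∈ N := by
    intro e s
    classical
    induction s using Finset.induction with
    | empty => simp
    | insert i s hi ih =>
      rw [Finset.prod_insert hi, Derivation.leibniz]
      refine add_mem (N.smul_mem _ ih) (N.smul_mem _ ?_)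
      rw [Derivation.leibniz_pow]
      exact nsmul_mem (N.smul_mem _ (Submodule.subset_span ⟨i, rfl⟩)) _
  change D g ∈ N
  rw [hg, map_sum]
  refine Submodule.sum_mem _ fun a _ => ?_
  rw [Derivation.leibniz]
  refine add_mem (N.smul_mem _ (hpow _ _)) (N.smul_mem _ ?_)
  rw [Derivation.leibniz_pow, ← Nat.cast_smul_eq_nsmul A, CharP.cast_eq_zero, zero_smul]
  exact N.zero_mem

/-- The partial derivatives identify `Ω` with a free module. -/
noncomputable def dMap : Ω[MvPowerSeries (Fin r) k⁄k] →ₗ[MvPowerSeries (Fin r) k] (Fin r → MvPowerSeries (Fin r) k) :=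
  LinearMap.pi fun i => (pderiv k i).liftKaehlerDifferential

theorem dMap_D (g : MvPowerSeries (Fin r) k) (i : Fin r) :
    dMap k (KaehlerDifferential.D k _ g) i = pderiv k i g := by
  simp [dMap]

include hp p in
theorem dMap_bijective : Function.Bijective (dMap k (r := r)) := by
  classical
  let A := MvPowerSeries (Fin r) k
  let e : Fin r → Ω[A⁄k] := fun i => KaehlerDifferential.D k A (X i)
  let f : (Fin r → A) →ₗ[A] Ω[A⁄k] := Fintype.linearCombination A e
  have hdf : ∀ x, dMap k (f x) = x := fun x => by
    funext i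
    simp only [f, Fintype.linearCombination_apply, map_sum, map_smul, Finset.sum_apply, Pi.smul_apply, smul_eq_mul]
    have he : ∀ j, dMap k (e j) i = pderiv k i (X j) := fun j => dMap_D k _ i
    simp only [he]
    rw [Finset.sum_eq_single i (fun j _ hj => by rw [pderiv_X_of_ne hj, mul_zero])
      (fun h => absurd (Finset.mem_univ i) h), pderiv_X_self, mul_one]
  have hf : Function.Surjective f := by
    rw [← LinearMap.range_eq_top, Fintype.range_linearCombination]
    exact span_D_X_eq_top k p
  refine ⟨fun x y hxy => ?_, fun x => ⟨f x, hdf x⟩⟩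
  obtain ⟨a, rfl⟩ := hf x
  obtain ⟨b, rfl⟩ := hf y
  rw [hdf, hdf] at hxy
  rw [hxy]

end Groth.Agent.Lib.PSOmega
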